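import Mathlib.AlgebraicGeometry.Sites.Representability
import Mathlib.CategoryTheory.Sites.Over
import Mathlib.CategoryTheory.Sites.SubcanonicalOver

/-!
# Representability over a base from a Zariski cover by representable open subfunctors
-/

set_option autoImplicit false
set_option linter.style.haveILetI false
set_option backward.isDefEq.respectTransparency false
set_option backward.isDefEq.respectTransparency.types false

universe u

open CategoryTheory CategoryTheory.Limits AlgebraicGeometry Opposite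

noncomputable section

namespace Groth.Agent.OverRep

variable {S : Scheme.{u}} (F : (Over S)ᵒᵖ ⥤ Type u)

theorem map_comp' {A B C : Over S} (f : A ⟶ B) (g : B ⟶ C) (h : A ⟶ C) (e : f.left ≫ g.left = h.left)
    (x : F.obj (op C)) : F.map f.op (F.map g.op x) = F.map h.op x := by
  rw [← show f ≫ g = h from Over.OverMorphism.ext e, op_comp, Functor.map_comp_apply]

theorem map_id' {A : Over S} (f : A ⟶ A) (e : f.left = 𝟙 _) (x : F.obj (op A)) : F.map f.op x = x := by
  rw [show f = 𝟙 A from Over.OverMorphism.ext e, op_id, Functor.map_id_apply]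

/-- Extensionality of pairs (structure map, element). -/
theorem pair_ext {R : Scheme.{u}} {t t' : R ⟶ S} {x : F.obj (op (Over.mk t))} {x' : F.obj (op (Over.mk t'))} :
    (⟨t, x⟩ : Σ t : R ⟶ S, F.obj (op (Over.mk t))) = ⟨t', x'⟩ ↔
      ∃ e : t = t', F.map (Over.homMk (𝟙 R) (by show 𝟙 R ≫ t' = t; simp [e]) : Over.mk t ⟶ Over.mk t').op x' = x := by
  constructor
  · intro h
    obtain ⟨rfl, h⟩ := Sigma.mk.inj h
    exact ⟨rfl, (map_id' F _ rfl x').trans (eq_of_heq h).symm⟩
  · rintro ⟨rfl, h⟩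
    rw [← h, map_id' F _ rfl x']

/-- The functor on schemes: a structure map and an element. -/
def total : Scheme.{u}ᵒᵖ ⥤ Type u where
  obj R := Σ t : R.unop ⟶ S, F.obj (op (Over.mk t))
  map g := TypeCat.ofHom fun p =>
    ⟨g.unop ≫ p.1, F.map (Over.homMk g.unop rfl : Over.mk (g.unop ≫ p.1) ⟶ Over.mk p.1).op p.2⟩
  map_id R := by
    refine ConcreteCategory.hom_ext _ _ fun p => ?_
    obtain ⟨t, x⟩ := p
    refine (pair_ext F).2 ⟨Category.id_comp _, ?_⟩
    congr 2
  map_comp g h := by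
    refine ConcreteCategory.hom_ext _ _ fun p => ?_
    obtain ⟨t, x⟩ := p
    refine (pair_ext F).2 ⟨Category.assoc _ _ _, ?_⟩
    refine (map_comp' F _ _ (Over.homMk h.unop (Category.assoc _ _ _).symm) ?_ _).trans (map_comp' F _ _ _ ?_ _)
    · exact Category.id_comp _
    · rfl

theorem total_map_eq {R R' : Scheme.{u}} (g : R' ⟶ R) {t : R ⟶ S} {x : F.obj (op (Over.mk t))} {t' : R' ⟶ S}
    {x' : F.obj (op (Over.mk t'))} :
    (total F).map g.op ⟨t, x⟩ = ⟨t', x'⟩ ↔
      ∃ e : g ≫ t = t', F.map (Over.homMk g e : Over.mk t' ⟶ Over.mk t).op x = x' := by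
  refine pair_ext F |>.trans ⟨?_, ?_⟩
  · rintro ⟨rfl, h⟩
    exact ⟨rfl, ((map_id' F _ rfl x').symm.trans h).symm⟩
  · rintro ⟨rfl, h⟩
    exact ⟨rfl, (map_id' F _ rfl x').trans h.symm⟩

theorem isSheaf_total (hF : Presheaf.IsSheaf (Scheme.zariskiTopology.over S) F) :
    Presheaf.IsSheaf Scheme.zariskiTopology (total F) := by
  rw [isSheaf_iff_isSheaf_of_type, Precoverage.isSheaf_toGrothendieck_iff_of_isStableUnderBaseChange]
  rintro Y R hR
  obtain ⟨(𝒰 : Scheme.OpenCover Y), rfl⟩ := Scheme.exists_cover_of_mem_pretopology hR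
  rw [Presieve.isSheafFor_arrows_iff]
  intro p hp
  choose tp xp hpe using fun i => show ∃ (t : 𝒰.X i ⟶ S) (x : F.obj (op (Over.mk t))), p i = ⟨t, x⟩ from
    ⟨(p i).1, (p i).2, rfl⟩
  have hcomp : ∀ i k (W : Scheme.{u}) (a : W ⟶ 𝒰.X i) (a' : W ⟶ 𝒰.X k), a ≫ 𝒰.f i = a' ≫ 𝒰.f k →
      ∃ e : a ≫ tp i = a' ≫ tp k, F.map (Over.homMk a rfl : Over.mk (a ≫ tp i) ⟶ Over.mk (tp i)).op (xp i) =
        F.map (Over.homMk a' e.symm : Over.mk (a ≫ tp i) ⟶ Over.mk (tp k)).op (xp k) := by
    intro i k W a a' h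
    have h1 := hp i k W a a' h
    rw [hpe, hpe] at h1
    obtain ⟨e, h2⟩ := (total_map_eq F a).1 (h1.trans rfl)
    refine ⟨e, ?_⟩
    let m : Over.mk (a ≫ tp i) ⟶ Over.mk (a' ≫ tp k) :=
      Over.homMk (𝟙 W) (by show 𝟙 W ≫ (a' ≫ tp k) = a ≫ tp i; simp [e])
    have h3 := congrArg (fun y => F.map m.op y) h2
    refine ((map_comp' F m _ _ ?_ (xp i)).symm.trans h3).trans (map_comp' F m _ _ ?_ (xp k))
    · exact Category.id_comp _
    · exact Category.id_comp _
  obtain ⟨t, ht⟩ : ∃ t : Y ⟶ S, ∀ i, 𝒰.f i ≫ t = tp i :=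
    ⟨𝒰.glueMorphisms tp fun i k => (hcomp i k _ _ _ pullback.condition).1, fun i => 𝒰.ι_glueMorphisms _ _ i⟩
  let T : Over S := Over.mk t
  let j : ∀ i, Over.mk (tp i) ⟶ T := fun i => Over.homMk (𝒰.f i) (ht i)
  let Z : 𝒰.I₀ → Over S := fun i => Over.mk (tp i)
  have hmem : Sieve.generate (Presieve.ofArrows Z j) ∈ (Scheme.zariskiTopology.over S) T := by
    rw [GrothendieckTopology.mem_over_iff]
    refine GrothendieckTopology.superset_covering _ ?_ 𝒰.mem_grothendieckTopology
    rintro V g ⟨W, a, _, ⟨i⟩, rfl⟩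
    rw [Sieve.overEquiv_iff]
    exact ⟨Z i, Over.homMk a (by
      show a ≫ tp i = (a ≫ 𝒰.f i) ≫ t
      rw [Category.assoc, ht]), j i, ⟨i⟩, Over.OverMorphism.ext rfl⟩
  have hs : Presieve.IsSheafFor F (Presieve.ofArrows Z j) :=
    (Presieve.isSheafFor_iff_generate _).2 ((isSheaf_iff_isSheaf_of_type _ _).1 hF _ hmem)
  obtain ⟨x₀, hx₀, huniq⟩ := (Presieve.isSheafFor_arrows_iff _ _).1 hs xp (fun i k W a a' h => by
    obtain ⟨e, he⟩ := hcomp i k W.left a.left a'.left (congrArg CommaMorphism.left h)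
    let m : W ⟶ Over.mk (a.left ≫ tp i) := Over.homMk (𝟙 _) (by
      show 𝟙 _ ≫ a.left ≫ tp i = W.hom
      rw [Category.id_comp]; exact Over.w a)
    have h1 := congrArg (fun y => F.map m.op y) he
    rw [map_comp' F m _ a (Category.id_comp _), map_comp' F m _ a' (Category.id_comp _)] at h1
    exact h1)
  refine ⟨⟨t, x₀⟩, fun i => ?_, ?_⟩
  · rw [hpe]
    exact (total_map_eq F _).2 ⟨ht i, hx₀ i⟩
  · rintro ⟨t', x'⟩ h'
    have h2 : ∀ i, ∃ e : 𝒰.f i ≫ t' = tp i, F.map (Over.homMk (𝒰.f i) e : Over.mk (tp i) ⟶ Over.mk t').op x' = xp i :=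
      fun i => (total_map_eq F _).1 ((h' i).trans (hpe i))
    have e : t' = t := 𝒰.hom_ext _ _ fun i => (h2 i).1.trans (ht i).symm
    subst e
    refine (pair_ext F).2 ⟨rfl, (map_id' F _ rfl x₀).trans (huniq x' fun i => (h2 i).2).symm⟩

variable {F}

/-- A Zariski sheaf over `S` covered by representable open subfunctors is representable. -/
theorem exists_representableBy (hF : Presheaf.IsSheaf (Scheme.zariskiTopology.over S) F) {ι : Type u}
    (Z : ι → Over S) (e : ∀ i, F.obj (op (Z i))) (O : ∀ (i : ι) (T : Over S), F.obj (op T) → T.left.Opens)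
    (hO : ∀ (i : ι) (T : Over S) (x : F.obj (op T)) (T' : Over S) (t : T' ⟶ T),
      Set.range t.left ⊆ O i T x ↔ ∃ q : T' ⟶ Z i, F.map q.op (e i) = F.map t.op x)
    (hinj : ∀ (i : ι) (T : Over S) (q q' : T ⟶ Z i), F.map q.op (e i) = F.map q'.op (e i) → q = q')
    (hcov : ∀ (T : Over S) (x : F.obj (op T)) (p : T.left), ∃ i, p ∈ O i T x) :
    ∃ Q : Over S, Nonempty (F.RepresentableBy Q) := by
  let Fs : Sheaf Scheme.zariskiTopology.{u} (Type u) := ⟨total F, isSheaf_total F hF⟩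
  let X : ι → Scheme.{u} := fun i => (Z i).left
  let el : ∀ i, (total F).obj (op (X i)) := fun i => ⟨(Z i).hom, e i⟩
  let f : ∀ i, yoneda.obj (X i) ⟶ Fs.1 := fun i => yonedaEquiv.symm (el i)
  have hmapel : ∀ i (R : Scheme.{u}) (r : R ⟶ X i) (t : R ⟶ S) (x : F.obj (op (Over.mk t))),
      (total F).map r.op (el i) = ⟨t, x⟩ ↔ ∃ h : r ≫ (Z i).hom = t,
        F.map (Over.homMk r h : Over.mk t ⟶ Z i).op (e i) = x := fun i R r t x => total_map_eq F r
  have hf : ∀ i, IsOpenImmersion.presheaf (f i) := by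
    intro i
    refine MorphismProperty.relative.of_exists fun T g => ?_
    obtain ⟨⟨t, x⟩, hg⟩ : ∃ p : (total F).obj (op T), yonedaEquiv g = p := ⟨_, rfl⟩
    let U : T.Opens := O i (Over.mk t) x
    let o : Over.mk (U.ι ≫ t) ⟶ Over.mk t := Over.homMk U.ι rfl
    obtain ⟨r, hr⟩ := (hO i (Over.mk t) x _ o).1 (Scheme.Opens.range_ι U).subset
    have hfst : (total F).map r.left.op (el i) = (total F).map U.ι.op ⟨t, x⟩ :=
      ((hmapel i _ r.left (U.ι ≫ t) (F.map o.op x)).2 ⟨Over.w r, hr⟩).trans rfl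
    have hgapp : ∀ (R : Scheme.{u}) (z : R ⟶ T), g.app (op R) z = (total F).map z.op ⟨t, x⟩ := fun R z => by
      rw [← hg, map_yonedaEquiv]
    refine ⟨U.toScheme, yoneda.map r.left, U.ι, ?_, inferInstance⟩
    have hw : yoneda.map r.left ≫ f i = yoneda.map U.ι ≫ g := by
      apply yonedaEquiv.injective
      rw [← yonedaEquiv_naturality, ← yonedaEquiv_naturality, Equiv.apply_symm_apply, hg]
      exact hfst
    refine IsPullback.of_isLimit' ⟨hw⟩ ?_
    have hkey : ∀ (R : Scheme.{u}) (r₁ r₂ : R ⟶ X i) , (total F).map r₁.op (el i) = (total F).map r₂.op (el i) →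
        r₁ = r₂ := by
      intro R r₁ r₂ h
      obtain ⟨h', h⟩ := (hmapel i _ r₁ (r₂ ≫ (Z i).hom) (F.map (Over.homMk r₂ rfl : Over.mk _ ⟶ Z i).op (e i))).1 h
      exact congrArg CommaMorphism.left (hinj i _ _ _ h)
    have hrange : ∀ (s : PullbackCone (f i) g) (R : Scheme.{u}ᵒᵖ) (z : s.pt.obj R),
        Set.range (show R.unop ⟶ T from s.snd.app R z) ⊆ Set.range U.ι := by
      intro s R z
      let r₁ : R.unop ⟶ X i := s.fst.app R z
      let r₂ : R.unop ⟶ T := s.snd.app R z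
      have h : (total F).map r₁.op (el i) = (total F).map r₂.op ⟨t, x⟩ := by
        rw [← hgapp]
        exact ConcreteCategory.congr_hom (NatTrans.congr_app s.condition R) z
      obtain ⟨h', h⟩ := (hmapel i _ r₁ (r₂ ≫ t) (F.map (Over.homMk r₂ rfl : Over.mk (r₂ ≫ t) ⟶ Over.mk t).op x)).1 h
      rw [Scheme.Opens.range_ι]
      exact (hO i (Over.mk t) x _ (Over.homMk r₂ rfl : Over.mk (r₂ ≫ t) ⟶ Over.mk t)).2 ⟨_, h⟩
    refine PullbackCone.IsLimit.mk hw
      (fun s => { app := fun R => TypeCat.ofHom fun z => IsOpenImmersion.lift U.ι (s.snd.app R z) (hrange s R z)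
                  naturality := fun R R' m => by
                    refine ConcreteCategory.hom_ext _ _ fun z => ?_
                    refine (cancel_mono U.ι).1 ?_
                    show IsOpenImmersion.lift U.ι _ _ ≫ U.ι = (m.unop ≫ IsOpenImmersion.lift U.ι _ _) ≫ U.ι
                    rw [Category.assoc, IsOpenImmersion.lift_fac, IsOpenImmersion.lift_fac]
                    exact ConcreteCategory.congr_hom (s.snd.naturality m) z })
      (fun s => ?_) (fun s => ?_) fun s m h1 h2 => ?_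
    · ext R z
      refine hkey _ _ _ ?_
      show (total F).map (IsOpenImmersion.lift U.ι _ (hrange s R z) ≫ r.left).op (el i) = _
      rw [op_comp, Functor.map_comp_apply]
      refine (congrArg _ hfst).trans ?_
      erw [← Functor.map_comp_apply, ← op_comp, IsOpenImmersion.lift_fac, ← hgapp]
      exact (ConcreteCategory.congr_hom (NatTrans.congr_app s.condition R) z).symm
    · ext R z
      exact IsOpenImmersion.lift_fac _ _ _
    · ext R z
      refine (cancel_mono U.ι).1 ?_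
      show _ = IsOpenImmersion.lift U.ι _ _ ≫ U.ι
      rw [IsOpenImmersion.lift_fac]
      exact ConcreteCategory.congr_hom (NatTrans.congr_app h2 R) z
  haveI : Presheaf.IsLocallySurjective Scheme.zariskiTopology (Sigma.desc f) := by
    refine ⟨fun {U} p => ?_⟩
    obtain ⟨t, x⟩ := p
    let 𝒰 := U.openCoverOfIsOpenCover (fun i => O i (Over.mk t) x) (TopologicalSpace.IsOpenCover.mk
      (eq_top_iff.2 fun z _ => TopologicalSpace.Opens.mem_iSup.2 (hcov (Over.mk t) x z)))
    refine GrothendieckTopology.superset_covering _ ?_ 𝒰.mem_grothendieckTopology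
    rintro V g ⟨W', a, _, ⟨i⟩, rfl⟩
    let o : Over.mk ((O i (Over.mk t) x).ι ≫ t) ⟶ Over.mk t := Over.homMk (O i (Over.mk t) x).ι rfl
    obtain ⟨r, hr⟩ := (hO i (Over.mk t) x _ o).1 (Scheme.Opens.range_ι _).subset
    refine ⟨(Sigma.ι (fun i => yoneda.obj (X i)) i).app (op V) (a ≫ r.left), ?_⟩
    rw [← CategoryTheory.comp_apply, ← NatTrans.comp_app, Sigma.ι_desc]
    show (total F).map (a ≫ r.left).op (el i) = (total F).map (a ≫ (O i (Over.mk t) x).ι).op ⟨t, x⟩
    rw [op_comp, Functor.map_comp_apply, op_comp, Functor.map_comp_apply]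
    exact congrArg _ (((hmapel i _ r.left _ (F.map o.op x)).2 ⟨Over.w r, hr⟩).trans rfl)
  obtain ⟨Q₀, ⟨R⟩⟩ := Scheme.LocalRepresentability.isRepresentable (F := Fs) (f := f) hf
  obtain ⟨⟨tQ, u⟩, hu⟩ : ∃ p : (total F).obj (op Q₀), R.homEquiv (𝟙 Q₀) = p := ⟨_, rfl⟩
  have hR : ∀ {W : Scheme.{u}} (g : W ⟶ Q₀), R.homEquiv g = (total F).map g.op ⟨tQ, u⟩ := fun g => by
    have := R.homEquiv_eq g
    rw [hu] at this
    exact this
  refine ⟨Over.mk tQ, ⟨{ homEquiv := fun {T} => Equiv.ofBijective (fun g : T ⟶ Over.mk tQ => F.map g.op u) ⟨?_, ?_⟩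
                         homEquiv_comp := fun {T T'} a g => by
                           show F.map (a ≫ g).op u = F.map a.op (F.map g.op u)
                           rw [op_comp, Functor.map_comp_apply] }⟩⟩
  · intro g g' h
    refine Over.OverMorphism.ext (R.homEquiv.injective ?_)
    rw [hR, hR]
    refine ((total_map_eq F g.left).2 ⟨Over.w g, h⟩).trans ?_
    exact ((total_map_eq F g'.left).2 ⟨Over.w g', rfl⟩).symm
  · intro x
    obtain ⟨r, hr⟩ := R.homEquiv.surjective (⟨T.hom, x⟩ : Σ t : T.left ⟶ S, F.obj (op (Over.mk t)))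
    rw [hR] at hr
    obtain ⟨h, h'⟩ := (total_map_eq F r).1 hr
    exact ⟨Over.homMk r h, h'⟩

end Groth.Agent.OverRep
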